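import Cfsg.Agent.Lib.M7.Tl
import Cfsg.Agent.Lib.Calc.Iso2
import Cfsg.Agent.S0447

/-! M7/A0: the structure of `N₁ = N(Z₁)`.
`S ≤ N₁`; orders: `|K| = 7⁵·5040`, `|N₁| = 6|K|`, so `|S| = 7⁶` and `S ≤ K` (`N₁/K` has order 6; `Q` is a normal 7-subgroup
of `N₁`, so `Q ≤ S`).  `O₇(N₁) = Q`: it lies in `K`, its image in `K/Q` is a normal 7-subgroup, its image in `A₇` is trivial
(simple), so it lies in the centre of order 2.  Hence `C(Q) ≤ Q` (`C(Q)` centralises `Z(Q)`; `Z₁ ≤ C(O₇) ≤ Q`, so `Z₁ = Z(Q)`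
by order, and `C_G(Q) ≤ N₁`).  `KC`: `K/Q` is perfect (`(K/Q)'` maps onto `A₇`, and is not a complement), `Aut Z₁` is abelian.
`ff`: `[g,Q] ≤ Z₁` gives `g ∈ Q C(Q)` (`ES.exists_inv_mul_mem_centralizer`).  `Z2Q` from `ff`.  `Z2`: `mem_upperCentralSeries_succ_iff`.
`fix`: `S = Q⟨u⟩`.  `z`: an involution of the preimage (order `2·7⁵`) of `Z(K/Q)`; `uq` from S0447 (transfer to `Type` by `Shrink`).
`zN`: `gzg⁻¹ ∈ K` is an involution, not in `Q`.  `inv`: `V = Q/Z₁ = C_V(z) × [V,z]`, both are `S`-invariant (`[z,S] ≤ Q`), a nontrivial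
`S`-invariant subgroup meets `C_V(S) = Z₂/Z₁` (order 7), and `C_V(z) = V` contradicts `ff`; so `C_V(z) = 1`, and `q ↦ zqz⁻¹q` lands in `C_V(z)`. -/

set_option autoImplicit false

namespace Cfsg.Lib.M7

open Subgroup Function Cfsg.Lib.BG
open scoped commutatorElement

theorem dc_aux {H : Type*} [Group H] [Finite H] (h : IsNonsplitDoubleCover H A7) :
    ∃ (c : H) (ψ : H →* A7), Surjective ψ ∧ orderOf c = 2 ∧ (∀ x, ψ x = 1 ↔ x = 1 ∨ x = c) ∧
      (∀ x, x * x = 1 → ψ x = 1) ∧ commutator H = ⊤ ∧ Nat.card H = 5040 := by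
  have : IsSimpleGroup A7 := alternatingGroup.isSimpleGroup (by simp)
  have h' := h
  obtain ⟨h1, ⟨e⟩, h2⟩ := h'
  let ψ := e.toMonoidHom.comp (QuotientGroup.mk' _)
  have s : Surjective ψ := e.surjective.comp (QuotientGroup.mk'_surjective _)
  have k : ∀ x, ψ x = 1 ↔ x ∈ center H := fun x => by simp [ψ]
  obtain ⟨c, c1, hc⟩ := (Nat.card_eq_two_iff' 1).1 h1
  have c2 : (c : H) ^ 2 = 1 := congrArg Subtype.val (h1 ▸ pow_card_eq_one' (x := c))
  refine ⟨c, ψ, s, orderOf_eq_prime c2 fun f => c1 (Subtype.ext f), fun x => (k x).trans ⟨fun m => ?_, ?_⟩, fun x hx => ?_, ?_, ?_⟩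
  · exact or_iff_not_imp_left.2 fun n => congrArg Subtype.val (hc ⟨x, m⟩ fun f => n (congrArg Subtype.val f))
  · rintro (rfl | rfl)
    exacts [one_mem _, c.2]
  · by_cases x1 : x = 1
    · rw [x1, map_one]
    let f := (Shrink.mulEquiv.{0} (α := H)).symm
    have : Finite (Shrink.{0} H) := .of_surjective _ f.surjective
    have m := Agent.S0447.mem_center le_rfl (Calc.isNonsplitDoubleCover_congr f h) (x := f x)
      ((f.orderOf_eq x).trans (orderOf_eq_prime ((sq x).trans hx) x1))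
    exact (k x).2 (mem_center_iff.2 fun g => f.injective (by rw [map_mul, map_mul, mem_center_iff.1 m]))
  · have h3 : center H ⊔ commutator H = ⊤ := by
      rcases (Normal.map (inferInstance : (commutator H).Normal) ψ s).eq_bot_or_eq_top with h | h
      · obtain ⟨u, hu⟩ := s ⟨Equiv.swap 0 1 * Equiv.swap 1 2, Equiv.Perm.mem_alternatingGroup.2 (by decide)⟩
        obtain ⟨v, hv⟩ := s ⟨Equiv.swap 0 1 * Equiv.swap 1 3, Equiv.Perm.mem_alternatingGroup.2 (by decide)⟩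
        have := mem_bot.1 (h.le (mem_map_of_mem _ (commutator_mem_commutator (mem_top u) (mem_top v))))
        rw [map_commutatorElement, commutatorElement_eq_one_iff_mul_comm, hu, hv] at this
        exact absurd (congrArg Subtype.val this) (by decide)
      · have := congrArg (comap ψ) h
        rwa [comap_map_eq, show ψ.ker = center H from Subgroup.ext k, comap_top, sup_comm] at this
    rcases eq_bot_or_eq_of_prime (h1 ▸ Nat.prime_two) (inf_le_left : center H ⊓ commutator H ≤ _) with h | h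
    · exact absurd (isComplement'_of_disjoint_and_mul_eq_univ (disjoint_iff.2 h) (by rw [← normal_mul, h3, coe_top])) (h2 _)
    · rwa [sup_eq_right.2 (inf_eq_left.1 h)] at h3
  · have c7 := nat_card_alternatingGroup (α := Fin 7)
    rw [← (center H).card_mul_index, h1, index, Nat.card_congr e.toEquiv, c7]
    simp [Nat.factorial]

variable {G : Type*} [Group G] [Finite G] {S : Sylow 7 G} {Z₁ Z₂ Q K A₃ A₅ : Subgroup G}

theorem Hy.kq (h : Hy S Z₁ Z₂ Q K A₃ A₅) : ∃ (z : G) (φ : K →* A7), Surjective φ ∧ z ∈ K ∧ orderOf z = 2 ∧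
    (∀ k : K, φ k = 1 ↔ (k : G) ∈ Q ∨ (k : G) * z ∈ Q) ∧ (∀ k : K, (k : G) * k ∈ Q → φ k = 1) ∧ K ≤ Q ⊔ ⁅K, K⁆ ∧
      Nat.card K = 7 ^ 5 * 5040 := by
  obtain ⟨_, h1⟩ := h.KQ
  obtain ⟨c, ψ, s, o, k1, k2, p, n⟩ := dc_aux h1
  let π := QuotientGroup.mk' (Q.subgroupOf K)
  have k : ∀ a : K, π a = 1 ↔ (a : G) ∈ Q := fun a => QuotientGroup.eq_one_iff a
  have cc : c * c = 1 := by rw [← sq, ← o, pow_orderOf_eq_one]
  obtain ⟨y, rfl⟩ := QuotientGroup.mk'_surjective _ c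
  have e : π (y ^ 7) = π y := by rw [map_pow, pow_succ, show 6 = 2 * 3 from rfl, pow_mul, sq, cc, one_pow, one_mul]
  refine ⟨(y ^ 7 : K), ψ.comp π, s.comp (QuotientGroup.mk'_surjective _), (y ^ 7).2, orderOf_eq_prime ?_ fun f => ?_,
    fun a => (k1 _).trans (or_congr (k a) ?_), fun a m => k2 _ ((k (a * a)).2 m), fun g hg => ?_, ?_⟩
  · rw [coe_pow, ← pow_mul, mul_comm, pow_mul, sq]
    exact h.exp _ ((k (y * y)).1 cc)
  · rw [show y ^ 7 = 1 from Subtype.ext f, map_one] at e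
    rw [← e, orderOf_one] at o
    omega
  · refine .trans ?_ (k (a * y ^ 7))
    rw [map_mul, e, mul_eq_one_iff_eq_inv, inv_eq_of_mul_eq_one_left cc]
  · have : π ⟨g, hg⟩ ∈ (commutator K).map π := by
      rw [map_commutator_eq, MonoidHom.range_eq_top_of_surjective _ (QuotientGroup.mk'_surjective _)]
      exact p.ge (mem_top _)
    obtain ⟨d, hd, e⟩ := this
    have m := (k (⟨g, hg⟩ * d⁻¹)).1 (by rw [map_mul, map_inv, e, mul_inv_cancel])
    have := mul_mem_sup m ((map_subtype_commutator K).le (mem_map_of_mem _ hd))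
    simpa using this
  · rw [← card_mul_relIndex h.QK, h.cQ]
    exact congrArg _ n

theorem Hy.l0 (h : Hy S Z₁ Z₂ Q K A₃ A₅) : ∃ (z : G) (φ : K →* A7), L0 S Z₁ Z₂ Q K z φ := by
  have : IsSimpleGroup A7 := alternatingGroup.isSimpleGroup (by simp)
  obtain ⟨z, φ, s, zK, oz, ker, uq, per, cK⟩ := h.kq
  obtain ⟨_, -, i6⟩ := h.NK
  replace i6 : K.relIndex 𝐍(Z₁) = 6 := i6
  have NQ := (normal_subgroupOf_iff_le_normalizer (h.QK.trans h.KN)).1 h.Qn
  have NK := (normal_subgroupOf_iff_le_normalizer h.KN).1 h.Kn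
  have ZS : Z₁ ≤ 𝐂((S : Subgroup G)) := h.eZ₁.le.trans inf_le_right
  have sy : Syl 7 S 𝐍(Z₁) := (Syl.of_sylow_top S).of_le (norm_of_cent (cent_symm ZS)) le_top
  have pQ : IsPGroup 7 Q := .of_card h.cQ
  have QS := sy.ge_of_norm_p (h.QK.trans h.KN) pQ (sy.le.trans NQ)
  have SK := sy.le_nml_of_idx ⟨h.KN, NK⟩ (PiNat.p'_iff.2 (by rw [i6]; norm_num))
  have cS : Nat.card (S : Subgroup G) = 7 ^ 6 := by
    obtain ⟨n, e⟩ := IsPGroup.iff_card.1 S.isPGroup'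
    have e1 := card_mul_relIndex SK
    have d := (fact7.out.coprime_iff_not_dvd.2 (Syl.not_dvd' (sy.of_le SK h.KN))).pow_left 6
    rw [e, cK, show 7 ^ 5 * 5040 = 7 ^ 6 * 720 by norm_num] at e1
    rw [e]
    exact Nat.dvd_antisymm ((Nat.Coprime.pow_left n (by norm_num)).dvd_of_dvd_mul_right ⟨_, e1.symm⟩)
      (d.dvd_of_dvd_mul_right ⟨_, e1⟩)
  have zz : z * z = 1 := by rw [← sq, ← oz, pow_orderOf_eq_one]
  have zi : z⁻¹ = z := inv_eq_of_mul_eq_one_left zz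
  have n2 : ∀ t : G, orderOf t = 2 → t ∉ (S : Subgroup G) := fun t o m => by
    have := orderOf_dvd_natCard _ m
    rw [o, cS] at this
    omega
  have O : 𝐎({7}, 𝐍(Z₁)) = Q := le_antisymm (fun p hp => by
    have l := sy.pcore_le
    have : (𝐎({7}, 𝐍(Z₁)).subgroupOf K).Normal := ((pcore_nml _ _).of_le (l.trans SK) h.KN).normal
    rcases (Normal.map this φ s).eq_bot_or_eq_top with e | e
    · refine ((ker _).1 (mem_bot.1 (e.le (mem_map_of_mem φ (show (⟨p, SK (l hp)⟩ : K) ∈ _ from hp))))).resolve_right fun m => ?_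
      exact n2 z oz (by simpa using mul_mem (inv_mem (l hp)) (QS m))
    · have := ((pcore_pgroup 7 𝐍(Z₁)).comap_subtype (K := K)).map φ
      rw [show comap K.subtype _ = subgroupOf _ K from rfl, e] at this
      have := pgroup_eq_of_dvd this Nat.prime_two (by rw [card_top, nat_card_alternatingGroup]; simp [Nat.factorial])
      omega) (pcore_max_p pQ ⟨h.QK.trans h.KN, NQ⟩)
  have ch : ∀ g ∈ 𝐍(Z₁), g ∈ 𝐂(Q) → g ∈ Q := fun g hg c => by
    rw [← O, pcore_p_eq] at c ⊢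
    exact mem_map_of_mem _ (h.ch (show (⟨g, hg⟩ : 𝐍(Z₁)) ∈ _ from fun a ha => Subtype.ext (c _ (mem_map_of_mem _ ha))))
  have Z1 : Z₁ ≤ 𝐂(Q) := ZS.trans (cent_anti QS)
  have ZQ' : Z₁ = Q ⊓ 𝐂(Q) := eq_of_card_le (fun a ha => ⟨ch a (le_norm _ ha) (Z1 ha), Z1 ha⟩) (by
    rw [h.cZ₁, ← h.es.2, ← Core.map_subtype_center, card_map_of_injective Q.subtype_injective])
  have Z1Q : Z₁ ≤ Q := ZQ'.le.trans inf_le_left
  have ZQ : 𝐂(Q) = Z₁ := le_antisymm (fun g hg => ZQ'.ge ⟨ch g (cent_le_norm _ (cent_anti Z1Q hg)) hg, hg⟩) Z1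
  have cm : ∀ q ∈ Q, ∀ r ∈ Q, ⁅q, r⁆ ∈ Z₁ := fun q hq r hr => ZQ.le fun g hg => congrArg Subtype.val
    (mem_center_iff.1 (h.es.1.2.2.le (commutator_mem_commutator (mem_top (⟨q, hq⟩ : Q)) (mem_top ⟨r, hr⟩))) ⟨g, hg⟩)
  have ff : ∀ g ∈ 𝐍(Z₁), (∀ q ∈ Q, ⁅g, q⁆ ∈ Z₁) → g ∈ Q := fun g _ c => by
    obtain ⟨e, he, m⟩ := ES.exists_inv_mul_mem_centralizer h.es fun x hx => ZQ'.le (c x hx)
    simpa using mul_mem he (Z1Q (ZQ.le m))
  have Z2 : ∀ g ∈ (S : Subgroup G), g ∈ Z₂ ↔ ∀ s ∈ (S : Subgroup G), ⁅g, s⁆ ∈ Z₁ := fun g hg => by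
    rw [h.eZ₂, h.eZ₁]
    refine (mem_map_iff_mem (S : Subgroup G).subtype_injective (x := ⟨g, hg⟩)).trans
      (Subgroup.mem_upperCentralSeries_succ_iff.trans ?_)
    rw [Subgroup.upperCentralSeries_one]
    exact ⟨fun f s hs => ⟨cm_of_mem hg (le_norm _ hs), fun a ha =>
      congrArg Subtype.val (mem_center_iff.1 (f ⟨s, hs⟩) ⟨a, ha⟩)⟩,
      fun f s => mem_center_iff.2 fun a => Subtype.ext ((f s s.2).2 a a.2)⟩
  have Z2S : Z₂ ≤ S := h.eZ₂ ▸ map_subtype_le _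
  have Z12 : Z₁ ≤ Z₂ := fun a ha => (Z2 a (QS (Z1Q ha))).2 fun s hs => cm_of_mem ha (sy.le hs)
  have QN := h.QK.trans h.KN
  have zN : ∀ g ∈ 𝐍(Z₁), g * z * g⁻¹ * z ∈ Q := fun g hg =>
    ((ker ⟨_, conj_mem_of_norm (NK hg) zK⟩).1 (uq _ (by
      rw [conj_mul, zz, mul_one, mul_inv_cancel]; exact one_mem _))).resolve_left
        fun m => n2 _ ((ES.orderOf_conj_eq g z).trans oz) (QS m)
  have zN' : ∀ g ∈ 𝐍(Z₁), g * z * g⁻¹ * z⁻¹ ∈ Q := by rwa [zi]
  have nil := sy.nil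
  have two : ∀ F : Subgroup G, Z₁ ≤ F → F ≤ Q → (∀ s ∈ (S : Subgroup G), ∀ q ∈ F, s * q * s⁻¹ ∈ F) → ¬ F ≤ Z₁ → Z₂ ≤ F :=
    fun F f1 f2 f3 f4 => by
      obtain ⟨x, hx, n, c⟩ := PGroup.exists_mem_not_mem_commutator_mem (f2.trans QS) (le_norm_iff.2 f3) f4
      rw [← sup_eq_of_card Z12 (by rw [h.cZ₁, h.cZ₂]) ((Z2 x (QS (f2 hx))).2 c) n]
      exact sup_le f1 (zpowers_le.2 hx)
  have zQ : ∀ q ∈ Q, z * q * z⁻¹ ∈ Q := fun q => conj_mem_of_norm (NQ (h.KN zK))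
  let I : Subgroup G :=
    { carrier := {q | q ∈ Q ∧ z * q * z⁻¹ * q ∈ Z₁}
      one_mem' := ⟨one_mem _, by simp⟩
      mul_mem' := fun {a b} ha hb => ⟨mul_mem ha.1 hb.1, by
        convert mul_mem (mul_mem (conj_mem_of_norm (QN (zQ a ha.1)) (cm _ (zQ b hb.1) a ha.1)) ha.2) hb.2 using 1
        simp only [commutatorElement_def]; group⟩
      inv_mem' := fun {a} ha => ⟨inv_mem ha.1, by
        convert inv_mem (conj_mem_of_norm (QN ha.1) ha.2) using 1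
        group⟩ }
  have hI : Z₂ ≤ I := two I (fun a ha => ⟨Z1Q ha, mul_mem (conj_mem_of_norm (h.KN zK) ha) ha⟩) (fun _ m => m.1)
    (fun s hs q hq => ⟨conj_mem_of_norm (NQ (sy.le hs)) hq.1, by
      convert conj_mem_of_norm (sy.le hs) (mul_mem (cm _ (zN' _ (inv_mem (sy.le hs))) _ (zQ q hq.1)) hq.2) using 1
      simp only [commutatorElement_def]; group⟩)
    fun f => n2 z oz (QS (ff z (h.KN zK) fun q hq => f ⟨mul_mem (zQ q hq) (inv_mem hq), by
      rw [commutatorElement_def, zi]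
      simp only [← mul_assoc, zz, one_mul]
      simp [mul_assoc, zz]⟩))
  have hF : Q ⊓ cmS Z₁ z ≤ Z₁ := by_contra fun n => by
    have := two (Q ⊓ cmS Z₁ z) (fun a ha => ⟨Z1Q ha, le_norm _ ha, cm_swap (cm_of_mem ha (h.KN zK))⟩) inf_le_left (fun s hs q hq =>
      ⟨conj_mem_of_norm (NQ (sy.le hs)) hq.1, QN (conj_mem_of_norm (NQ (sy.le hs)) hq.1), by
        have m := zN' _ (inv_mem (sy.le hs))
        have := (cmS Z₁ q).mul_mem ⟨QN m, cm q hq.1 _ m⟩ ⟨h.KN zK, cm_swap hq.2.2⟩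
        convert cm_conj (sy.le hs) (cm_swap this.2) using 2
        group⟩) n
    obtain ⟨x, hx, n⟩ := exists_not_mem (A := Z₁) (B := Z₂) (by rw [h.cZ₁, h.cZ₂]; norm_num)
    have m := pow_mem (mul_mem (inv_mem (this hx).2.2) (hI hx).2) 4
    rw [show ⁅z, x⁆⁻¹ * (z * x * z⁻¹ * x) = x ^ 2 by simp only [commutatorElement_def, sq]; group, ← pow_mul, pow_succ,
      h.exp x (hI hx).1, one_mul] at m
    exact n m
  refine ⟨z, φ, S.isPGroup', S.not_dvd_index, cS, h.cZ₁, h.cZ₂, h.cQ, cK, ?_, h.es, h.exp, ZQ, h.eZ₁.symm, cm, Z12,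
    fun g hg => ff g (sy.le (Z2S hg)) fun q hq => (Z2 g (Z2S hg)).1 hg q (QS hq), QS, SK, per.trans (sup_le (cent_symm Z1) ?_),
    NQ, NK, Z2, fun u hu n q hq c => (Z2 q (QS hq)).2 fun s hs => ?_, ff, s, zK, oz, ker, fun q hq => hF ?_, uq, zN⟩
  · rw [← card_mul_relIndex h.KN, cK, i6]; norm_num
  · obtain ⟨a, -, e⟩ := cyclic_iff.1 (cyclic_of_prime (A := Z₁) (h.cZ₁ ▸ fact7.out))
    have := h.KN
    rw [← e] at this ⊢
    exact commutator_le.2 fun g hg k hk => PGroup.commutator_mem_centralizer_zpowers (this hg) (this hk)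
  · rw [← sup_eq_of_card QS (by rw [cS, h.cQ]; norm_num) hu n] at hs
    exact (sup_le (c := cmS Z₁ q) (fun r hr => ⟨QN hr, cm q hq r hr⟩) (zpowers_le.2 ⟨sy.le hu, c⟩) hs).2
  · refine ⟨mul_mem (zQ q hq) hq, QN (mul_mem (zQ q hq) hq), ?_⟩
    convert cm q hq _ (zQ q hq) using 1
    simp only [commutatorElement_def, zi, mul_inv_rev, ← mul_assoc, zz, one_mul]

end Cfsg.Lib.M7
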