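import Cfsg.Agent.Lib.M7.Bas
import Cfsg.Agent.Lib.BG.Hall
import Cfsg.Agent.Lib.KI.SpHe
import Cfsg.Agent.S5424
import Cfsg.Agent.S2134

/-! M7/HeI: involutions of `He`.  From `KI.He` (see the proofs of `sa`, `sb`, `spo`): every involution is conjugate to `a = gam netG K.w0 0` or `b = gam netG K.w0 1`,
`|C(a)| = 21504`, `|C(b)| = 161280`, and some `y ∈ C(b)` of order 7 has `|C(b) ⊓ C(y)| = 56` (`card_cen1`, `card_cen2`, `ev_of_chk`).  If `t ~ b`, then `⟨u⟩` is conjugate to `⟨y⟩` in `C(b)` (Sylow, order 7), so the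
count is 56.  S2134 gives `z` with `C(z) ≅ C_{SL₅(2)}(s)`; `ES.Tv.main` (`n = 3`) gives `O₂` extraspecial of order `2⁷` with complement `GL₃(2)` (order 168), so `|C(z)| = 21504`, `z ~ a`.  Transport; `R = O₂(C(t))`
contains `t`, `Z(R) = ⟨t⟩`; replace `F` by `F⟨t⟩`, abelian of order `≤ 16` (`Ext.card_centralizer_mul`). -/

set_option autoImplicit false

namespace Cfsg.Lib.M7

open Subgroup Function Cfsg.Lib.BG
open scoped commutatorElement

section
variable {G G' : Type*} [Group G] [Group G'] [Finite G] {C : Subgroup G} {z : G}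

theorem X7.map (h : X7 C z) {f : G →* G'} (hf : Injective f) : X7 (C.map f) (f z) := by
  obtain ⟨R, F, h1, h2, h3, h4, h5, h6, h7, h8⟩ := h
  refine ⟨R.map f, F.map f, h1.map f, ES.isExtraspecial_congr (R.equivMapOfInjective f hf) h2,
    (card_map_of_injective hf).trans h3, map_mono h4, mem_map_of_mem f h5, ⟨abelian_map f h6.1, ?_⟩,
    (card_map_of_injective hf).trans h7, fun D d1 d2 => ?_⟩
  · rintro _ ⟨a, ha, rfl⟩
    rw [← map_pow, h6.2 a ha, map_one]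
  · rw [← map_comap_eq_self (d1.le.trans (map_le_range f C))]
    refine map_mono (h8 _ ⟨fun a ha => (mem_map_iff_mem hf).1 (d1.le ha), le_norm_iff.2 fun a ha b hb => ?_⟩
      (d2.comap_of_injective f hf))
    simpa using conj_mem_of_norm (d1.norm (mem_map_of_mem f ha)) hb

theorem X7.of_cen (h : X7 C z) {t : G} (h1 : t ∈ C) (h2 : C ≤ 𝐂[t]) (h3 : orderOf t = 2) : X7 C t := by
  obtain ⟨R, F, r1, r2, r3, r4, r5, r6, r7, r8⟩ := h
  have m : t ∈ R := r8 (zpowers t) (Nml.of_cent (by rwa [cent_zpowers]) (zpowers_le.2 h1))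
    (.of_card (n := 1) (by rw [Nat.card_zpowers, h3]; rfl)) (mem_zpowers t)
  have := ES.centralizer_eq_of_card_eq r2 (n := 3) r3 (A := F.subgroupOf R)
    ⟨⟨fun a b => Subtype.ext (Subtype.ext (abelian_cent r6.1 b.2 _ a.2))⟩⟩
    ((Nat.card_congr (subgroupOfEquivOfLe r4).toEquiv).trans r7)
  exact ⟨R, F, r1, r2, r3, r4, (this.le (show (⟨t, m⟩ : R) ∈ _ from fun a _ =>
    Subtype.ext (mem_cent1.1 (h2 (r1.le a.2)))) :), r6, r7, r8⟩

theorem X7.top (h : X7 C z) (hz : z ∈ C) : X7 (⊤ : Subgroup C) ⟨z, hz⟩ := by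
  obtain ⟨R, F, h1, h2, h3, h4, h5, h6, h7, h8⟩ := h
  refine ⟨R.subgroupOf C, F.subgroupOf C, Nml.top_iff.2 h1.normal,
    ES.isExtraspecial_congr (subgroupOfEquivOfLe h1.le).symm h2,
    (Nat.card_congr (subgroupOfEquivOfLe h1.le).toEquiv).trans h3, comap_mono h4, h5,
    ⟨⟨⟨fun a b => Subtype.ext (Subtype.ext (abelian_cent h6.1 b.2 _ a.2))⟩⟩, fun a ha => Subtype.ext (h6.2 a ha)⟩,
    (Nat.card_congr (subgroupOfEquivOfLe (h4.trans h1.le)).toEquiv).trans h7, fun D d1 d2 a ha => ?_⟩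
  have := Nml.top_iff.1 d1
  exact h8 _ (Nml.of_normal C D) (d2.map _) (mem_map_of_mem _ ha)

theorem card_cent_conj {a b : G} (h : IsConj a b) : Nat.card 𝐂[a] = Nat.card 𝐂[b] := by
  obtain ⟨g, rfl⟩ := isConj_iff.1 h
  rw [← conj_cent1, Transfer.card_conj]

end

attribute [local instance] Calc.He.act

theorem he_ex : ∃ z : Spor.He, orderOf z = 2 ∧ Nat.card 𝐂[z] = 21504 ∧ X7 𝐂[z] z := by
  let s : Matrix.SpecialLinearGroup (Fin 5) (ZMod 2) :=
    ⟨Matrix.transvection 0 1 1, Matrix.det_transvection_of_ne _ _ (by decide) _⟩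
  obtain ⟨z, h1, ⟨e⟩⟩ := Agent.S2134.result s rfl
  obtain ⟨a1, a2, ⟨F, a3, a4, a5⟩, -, K, a6, a7, a8, ⟨f⟩⟩ := ES.Tv.main (n := 3) (by omega)
    Matrix.SpecialLinearGroup.coeMonoidHom (fun _ _ h => Subtype.ext h) (z := s) rfl
    (fun X Y h _ => ⟨⟨X, Agent.S5424.det_eq_one h⟩, rfl⟩) rfl
  rw [← pcore_p_eq] at a1 a2 a3 a7 a8
  have := OutS.He.netG.fin
  refine ⟨z, h1, ?_, ?_⟩
  · rw [Nat.card_congr e.toEquiv, ← SD.card ⟨a6.trans (pcore_nml _ _).norm, a7, a8⟩, a2, Nat.card_congr f.toEquiv,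
      Matrix.card_GL_field]
    simp [Fin.prod_univ_succ]
  · have x : X7 𝐂[s] 1 := ⟨_, F, pcore_nml _ _, a1, a2, a3, one_mem _, a4, a5, fun D d1 d2 => pcore_max_p d2 d1⟩
    have := (x.top (one_mem _)).map (f := (𝐂[z]).subtype.comp e.symm.toMonoidHom)
      ((subtype_injective _).comp e.symm.injective)
    rw [← map_map, map_top_of_surjective _ e.symm.surjective, ← MonoidHom.range_eq_map, range_subtype] at this
    exact this.of_cen (self_mem_cent1 z) le_rfl h1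

open KI KI.He Calc F2 Grp in
theorem he_cls : ∃ a b y : Spor.He, (∀ t, orderOf t = 2 → IsConj t a ∨ IsConj t b) ∧ Nat.card 𝐂[a] = 21504 ∧
    Nat.card 𝐂[b] = 161280 ∧ y ∈ 𝐂[b] ∧ orderOf y = 7 ∧ Nat.card ↥(𝐂[b] ⊓ 𝐂[y]) = 56 := by
  have := OutS.He.netG.fin
  have C := cx OutS.He.netG OutS.He.cA (ap2_eq 12) K.w0
  have h := band_eq_true.1 (of_dicK K.ok)
  have ha := band_eq_true.1 (of_dicK aA.ok)
  have hb := band_eq_true.1 (of_dicK bA.ok)
  have e := ev_of_chk (cx OutS.He.netG OutS.He.cA (ap2_eq 12) bA.w0) (by norm_num) hb.2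
  have c := card_cen2 (cx OutS.He.netG OutS.He.cA (ap2_eq 12) bB.w0) (of_dicK bB.ok)
  rw [gam_eq (w1 := bA.w0) (j := 0) _ (by decide), gam_eq (w0 := bB.w0) (w1 := bA.w0) (j := 1) _ (by decide)] at c
  refine ⟨_, _, _, fun t ht => ?_, card_cen1 (cx OutS.He.netG OutS.He.cA (ap2_eq 12) aA.w0) ha.1,
    card_cen1 (cx OutS.He.netG OutS.He.cA (ap2_eq 12) bA.w0) hb.1, e.1, e.2.1, c⟩
  obtain ⟨i, hi, k⟩ := C.exists_isConj (C.pgp two_pos h.1) (by decide) (by decide) h.2 ht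
  simp only [List.mem_cons, List.not_mem_nil, or_false] at hi
  rcases hi with rfl | rfl
  · exact .inl (gam_eq (w0 := K.w0) (i := 0) (w1 := aA.w0) (j := 0) OutS.He.netG (by decide) ▸ k)
  · exact .inr (gam_eq (w0 := K.w0) (i := 1) (w1 := bA.w0) (j := 0) OutS.He.netG (by decide) ▸ k)

theorem he_seven {t : Spor.He} (ht : orderOf t = 2) : ¬ 49 ∣ Nat.card 𝐂[t] := by
  have := OutS.He.netG.fin
  obtain ⟨a, b, -, h1, h2, h3, -⟩ := he_cls
  rcases h1 t ht with c | c <;> rw [card_cent_conj c]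
  · rw [h2]; norm_num
  · rw [h3]; norm_num

theorem he_conj {t t' : Spor.He} (ht : orderOf t = 2) (ht' : orderOf t' = 2) (h : Nat.card 𝐂[t] = 21504)
    (h' : Nat.card 𝐂[t'] = 21504) : IsConj t t' := by
  have := OutS.He.netG.fin
  obtain ⟨a, b, -, h1, h2, h3, -⟩ := he_cls
  have k : ∀ t, orderOf t = 2 → Nat.card 𝐂[t] = 21504 → IsConj t a := fun t ht h =>
    (h1 t ht).resolve_right fun c => by rw [card_cent_conj c, h3] at h; omega
  exact (k t ht h).trans (k t' ht' h').symm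

theorem he_inv {t u : Spor.He} (ht : orderOf t = 2) (hu : orderOf u = 7) (c : u ∈ 𝐂[t])
    (h : Nat.card ↥(𝐂[t] ⊓ 𝐂[u]) = 14) : Nat.card 𝐂[t] = 21504 ∧ X7 𝐂[t] t := by
  have := OutS.He.netG.fin
  have k : Nat.card 𝐂[t] = 21504 := by
    obtain ⟨a, b, y, h1, h2, h3, h4, h5, h6⟩ := he_cls
    rcases h1 t ht with d | d
    · rw [card_cent_conj d, h2]
    obtain ⟨g, rfl⟩ := isConj_iff.1 d.symm
    have cy : Nat.card (zpowers y) = 7 := by rw [Nat.card_zpowers, h5]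
    have s : Syl 7 (zpowers y) 𝐂[b] := Syl.mk' (zpowers_le.2 h4) (.of_card (n := 1) cy) fun d => by
      have := card_mul_relIndex (zpowers_le.2 h4)
      rw [cy, h3] at this
      omega
    have cu : Nat.card (zpowers u) = 7 := by rw [Nat.card_zpowers, hu]
    rw [← conj_cent1] at c h
    obtain ⟨k, hk, e⟩ := Syl.exists_le_conj (s.conj g) (.of_card (n := 1) cu) (zpowers_le.2 c)
    rw [← cent_zpowers u, eq_of_card_le e (by rw [Transfer.card_conj, Transfer.card_conj, cy, cu]),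
      ← Transfer.conj_centralizer, ← Transfer.conj_centralizer, ← conj_eq_of_mem hk, ← Transfer.conj_inf,
      ← Transfer.conj_inf, Transfer.card_conj, Transfer.card_conj, cent_zpowers, h6] at h
    omega
  obtain ⟨z, h1, h2, h3⟩ := he_ex
  obtain ⟨g, rfl⟩ := isConj_iff.1 (he_conj h1 ht h2 k)
  exact ⟨k, conj_cent1 g z ▸ h3.map (f := (MulAut.conj g).toMonoidHom) (MulAut.conj g).injective⟩

end Cfsg.Lib.M7
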