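import Cfsg.Agent.Lib.M7.C1
import Cfsg.Agent.Lib.M7.HeI

/-! M7/C2: the data `Cz` in `H = C(z)`; `E` is the `subgroupOf` of `S ⊓ C(z)`, `y ∈ Z₁#`, `x' ∈ E` conjugate to `x` (exists: only 24 of the 48 elements are conjugate to `y`).
`CHe` is conjugation invariant.  For `e ∈ E`, `e ~ x`, `ψ : C(e) → He`, `t = ψ z` is an involution, `C(t) = ψ(C(e) ⊓ H)` (`[c,z] ∈ ⟨e⟩` central of order 7 and `z² = 1` give `[c,z] = 1`), so
`|C_H(e)| = 7|C(t)|` has 7-part `≤ 49` (`he_seven`); for `e ~ y`, `|C_H(e)| = 14·2520` (`Cy`, `conj`).  So `E` is Sylow in `H` (if `E < T`, `|T:E| = 7`, then `T` centralises some `e ∈ E#`).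
With `u = ψ e'`, `e' ∈ E∖⟨e⟩`: `C(t) ⊓ C(u) = ψ(N)`, `N = {c ∈ C_H(e) | [c,e'] ∈ ⟨e⟩}`; `c ↦ [c,e']` is a hom `N → ⟨e⟩` with kernel `C_H(E)` of order 98 and `343 ∤ |N|`, so `|N| = 98`; `he_inv`.
Pull `X7` back: `ψ⁻¹(R) = ⟨e⟩ × R'` with `R'` its (normal) Sylow 2-subgroup, `ψ : R' ≅ R`.  All `e ~ x` of `E` are conjugate in `H`: if `geg⁻¹ = e₂`, then `gzg⁻¹ ∈ C(e₂)` has the same centraliser order, `he_conj`,
and `⟨e₂⟩⟨z⟩` has a unique involution.  `px`: `x ~ x³` in `G` (`dich`: `x³ ∈ A∖Z₂` is not special by `nb`, `Sp.isConj`). -/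

set_option autoImplicit false

namespace Cfsg.Lib.M7

open Subgroup Function Cfsg.Lib.BG
open scoped commutatorElement Cfsg.Lib.Transfer

variable {G : Type*} [Group G] [Finite G] {S Z₁ Z₂ Q K A : Subgroup G} {z x : G} {φ : K →* A7}

omit [Finite G] in
theorem CHe.conj (h : CHe x) {e : G} (c : IsConj x e) : CHe e := by
  obtain ⟨g, rfl⟩ := isConj_iff.1 c
  obtain ⟨ψ, h1, h2⟩ := h
  refine ⟨ψ.comp (((MulAut.conj g⁻¹).toMonoidHom.comp (𝐂[g * x * g⁻¹]).subtype).codRestrict _ fun a => by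
    simpa using Transfer.mem_conj.1 ((conj_cent1 g x).ge a.2)), h1.comp fun a =>
      ⟨⟨g * a * g⁻¹, (conj_cent1 g x).le (Transfer.conj_mem_conj.2 a.2)⟩, Subtype.ext (by simp [mul_assoc])⟩, fun c => ?_⟩
  rw [← Transfer.conj_zpowers, Transfer.mem_conj]
  exact (h2 _).trans (by simp)

omit [Finite G] in
theorem cent1_sub {H : Subgroup G} (a : H) : 𝐂[a] = (𝐂[(a : G)] ⊓ H).subgroupOf H := by
  ext b
  simp [mem_cent1, mem_subgroupOf, Subtype.ext_iff]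

theorem eq_one_of_zpowers {e d : G} (he : e ^ 7 = 1) (hd : d ∈ zpowers e) {r : ℕ} (hr : ¬ 7 ∣ r) (h : d ^ r = 1) : d = 1 := by
  obtain ⟨n, rfl⟩ := mem_zpowers_iff.1 hd
  refine orderOf_eq_one_iff.1 (Nat.eq_one_of_dvd_coprimes ((Nat.Prime.coprime_iff_not_dvd fact7.out).2 hr)
    (orderOf_dvd_of_pow_eq_one ?_) (orderOf_dvd_of_pow_eq_one h))
  rw [← zpow_natCast, ← zpow_mul, mul_comm, zpow_mul, zpow_natCast, he, one_zpow]

section
variable {Y : Type*} [Group Y] {e : G} {ψ : 𝐂[e] →* Y} (hk : ∀ c, ψ c = 1 ↔ (c : G) ∈ zpowers e) (he : orderOf e = 7)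
include hk he

theorem ord_two {w : 𝐂[e]} (hw : orderOf (w : G) = 2) : orderOf (ψ w) = 2 :=
  have w2 : (w : G) ^ 2 = 1 := hw ▸ pow_orderOf_eq_one _
  orderOf_eq_prime (by rw [← map_pow, show w ^ 2 = 1 from Subtype.ext w2, map_one]) fun c => by
    rw [eq_one_of_zpowers (he ▸ pow_orderOf_eq_one e) ((hk w).1 c) (by norm_num) w2] at hw
    simp at hw

theorem cen_bar (hs : Surjective ψ) {w : 𝐂[e]} (hw : orderOf (w : G) = 2) : 𝐂[ψ w] = bar ψ 𝐂[(w : G)] := by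
  have p : IsPGroup 2 (zpowers w) := .of_card (n := 1) (by rw [Nat.card_zpowers, ← orderOf_coe, hw]; rfl)
  rw [← cent_zpowers, ← MonoidHom.map_zpowers, Coprime.centralizer_map_of_surjective ψ hs
    (coprime_pgroups (q := 7) p (fun a => ⟨1, Subtype.ext (Subtype.ext ?_)⟩) (by norm_num)) (.inl (pgroup_sol p)),
    cent_zpowers, cent1_sub, inf_subgroupOf_right, bar]
  obtain ⟨n, hn⟩ := mem_zpowers_iff.1 ((hk a).1 a.2)
  change (a : G) ^ 7 = 1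
  rw [← hn, ← zpow_natCast, ← zpow_mul, mul_comm, zpow_mul, zpow_natCast, ← he, pow_orderOf_eq_one, one_zpow]

theorem card_cen_bar (hs : Surjective ψ) {w : 𝐂[e]} (hw : orderOf (w : G) = 2) :
    Nat.card 𝐂[ψ w] * 7 = Nat.card ↥(𝐂[(w : G)] ⊓ 𝐂[e]) := by
  rw [cen_bar hk he hs hw, ← he, card_bar hk (mem_cent1_symm w.2)]

theorem X7.pull [Finite Y] {M : Subgroup G} (h1 : M ≤ 𝐂[e]) (h2 : e ∈ M) {t : Y} (h : X7 (bar ψ M) t) : X7 M 1 := by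
  obtain ⟨R, F, r1, r2, r3, r4, -, r6, r7, r8⟩ := h
  have b : bar ψ 𝐎({2}, M) = R := by
    refine le_antisymm (r8 _ ⟨bar_mono (pcore_le _ _), ?_⟩ (((pcore_pgroup 2 M).comap_subtype).map _)) ?_
    · rintro _ ⟨c, hc, rfl⟩
      exact bar_norm ((pcore_nml _ _).norm hc)
    let T := (R.comap ψ).map (𝐂[e]).subtype
    have eT : zpowers e ≤ T := zpowers_le.2 ⟨⟨e, self_mem_cent1 e⟩, by
      simp [(hk ⟨e, self_mem_cent1 e⟩).2 (mem_zpowers e)], rfl⟩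
    have bT : R ≤ bar ψ T := fun a ha => let ⟨c, _, e⟩ := r1.le ha; ⟨c, ⟨c, show ψ c ∈ R from e ▸ ha, rfl⟩, e⟩
    have n : Nml T M := ⟨by rintro _ ⟨c, hc, rfl⟩; exact (mem_bar hk h2).1 (r1.le hc), le_norm_iff.2 (by
      rintro a ha _ ⟨c, hc, rfl⟩
      exact ⟨⟨a, h1 ha⟩ * c * ⟨a, h1 ha⟩⁻¹, by
        simpa using conj_mem_of_norm (r1.norm ((mem_bar hk h2 (c := ⟨a, h1 ha⟩)).2 ha)) hc, rfl⟩)⟩
    obtain ⟨P, s⟩ := Syl.exists 2 T
    have e1 : zpowers e ⊔ P = T := s.sup_eq eT (by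
      have c := card_bar hk (eT (mem_zpowers e))
      rw [inf_eq_left.2 (n.le.trans h1), ← card_mul_relIndex eT, Nat.card_zpowers, mul_comm,
        show bar ψ T = R from le_antisymm (by rintro _ ⟨c, ⟨d, hd, e⟩, rfl⟩; exact Subtype.ext e ▸ hd) bT, r3] at c
      rw [← Nat.eq_of_mul_eq_mul_left (orderOf_pos e) c]
      exact .prime_pow Nat.prime_two (Set.mem_singleton 2) _)
    have l := s.le.trans (n.le.trans h1)
    rw [← e1, sup_comm, bar_sup hk l] at bT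
    exact bT.trans (bar_mono ((Syl.pcore_eq' s (e1.ge.trans
      (sup_le (norm_of_cent (cent_symm (by rwa [cent_zpowers]))) (le_norm _)))).ge.trans (n.pcore_le _)))
  have l := (pcore_le {2} M).trans h1
  let f := ψ.comp (inclusion l)
  have hf : Injective f := (injective_iff_map_eq_one f).2 fun a ha => by
    obtain ⟨k, e2⟩ := pcore_pgroup 2 M a
    exact Subtype.ext (eq_one_of_zpowers (he ▸ pow_orderOf_eq_one e) ((hk _).1 ha) (r := 2 ^ k)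
      (fun c => absurd (fact7.out.dvd_of_dvd_pow c) (by norm_num)) (congrArg Subtype.val e2))
  have r : f.range = R := by rw [← b, bar, ← MonoidHom.map_range, inclusion_range]
  have c : (F.comap f).map f = F := map_comap_eq_self (r4.trans r.ge)
  let j := (MonoidHom.ofInjective hf).trans (MulEquiv.subgroupCongr r)
  refine ⟨_, (F.comap f).map (Subgroup.subtype _), pcore_nml _ _, ES.isExtraspecial_congr j.symm r2,
    (Nat.card_congr j.toEquiv).trans r3, map_subtype_le _, one_mem _,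
    ⟨abelian_map _ ⟨⟨fun a b => Subtype.ext (hf ?_)⟩⟩, ?_⟩, ?_, fun D d1 d2 => pcore_max_p d2 d1⟩
  · simpa using abelian_cent r6.1 b.2 _ a.2
  · rintro _ ⟨a, ha, rfl⟩
    exact congrArg Subtype.val (hf ((map_pow f a 2).trans ((r6.2 _ ha).trans (map_one f).symm)))
  · rw [card_map_of_injective (subtype_injective _), ← card_map_of_injective hf, c, r7]

end

namespace L2
variable (h : L2 S Z₁ Z₂ Q K A z φ x)
include h

theorem cKz : Nat.card ↥(K ⊓ 𝐂[z]) = 35280 := by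
  have e : Q ⊔ K ⊓ 𝐂[z] = K := le_antisymm (sup_le h.QK inf_le_left) fun s hs => by
    obtain ⟨q, hq, c⟩ := h.exists_cen (h.KN hs)
    simpa using mul_mem (mem_sup_left (inv_mem hq)) (mem_sup_right (show q * s ∈ K ⊓ 𝐂[z] from ⟨mul_mem (h.QK hq) hs, c⟩))
  have := Coprime.card_sup_mul_card_inf ((inf_le_left : K ⊓ 𝐂[z] ≤ K).trans (h.KN.trans h.NQ))
  rw [e, ← inf_assoc, inf_eq_left.2 h.QK, h.cen_z, h.cK, h.cZ₁, h.cQ] at this
  omega

theorem cCE : Nat.card ↥(𝐂[z] ⊓ 𝐂(S ⊓ 𝐂[z])) = 98 := by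
  have c : Nat.card (zpowers z) = 2 := by rw [Nat.card_zpowers, h.oz]
  have := Coprime.card_sup_mul_card_inf (norm_of_cent (zpowers_le.2 (le_cent1_iff.1 (inf_le_right : S ⊓ 𝐂[z] ≤ _))))
  rwa [disjoint_of_coprime (K := zpowers z) (by rw [h.cE, c]; norm_num), card_bot, mul_one, h.cE, c, ← h.CE] at this

theorem ord_of {e : G} (c : IsConj x e) : orderOf e = 7 := by
  obtain ⟨g, rfl⟩ := isConj_iff.1 c
  exact ((MulAut.conj g).orderOf_eq x).trans h.ox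

theorem not_dvd (he : CHe x) {e : G} (h1 : e ∈ S ⊓ 𝐂[z]) (h2 : e ≠ 1) : ¬ 343 ∣ Nat.card ↥(𝐂[z] ⊓ 𝐂[e]) := by
  obtain ⟨y, hy, y1⟩ := h.exists_gen
  rcases (h.clsE hy y1).1 e h1 h2 with c | c
  · obtain ⟨g, hg, rfl⟩ := h.conj hy y1 h1.2 c
    rw [← conj_cent1, ← conj_eq_of_mem hg, ← Transfer.conj_inf, Transfer.card_conj, h.cen1 hy y1, inf_comm, h.cKz]
    norm_num
  · obtain ⟨ψ, hs, hk⟩ := he.conj c
    rw [← card_cen_bar hk (h.ord_of c) hs (w := ⟨z, mem_cent1_symm h1.2⟩) h.oz]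
    exact fun d => he_seven (ord_two hk (h.ord_of c) (w := ⟨z, mem_cent1_symm h1.2⟩) h.oz)
      (Nat.dvd_of_mul_dvd_mul_right (k := 7) (by norm_num) d)

theorem sylE (he : CHe x) : Syl 7 (S ⊓ 𝐂[z]) 𝐂[z] :=
  Syl.of_norm (Syl.of_max (le_inf inf_le_right (le_norm _)) (pgroup_of_le h.pS inf_le_left) fun T p h1 h2 => by
    obtain ⟨e, h3, e1⟩ := exists_ne_one (nil_meet_center (pgroup_nil p) h1 (h2.trans inf_le_right)
      (ne_bot_of_dvd fact7.out (by rw [h.cE]; norm_num)))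
    obtain ⟨k, hk⟩ := IsPGroup.iff_card.1 p
    have := card_dvd (le_inf (h2.trans inf_le_left) (le_cent1_iff.2 h3.2))
    refine (eq_of_card_le h1 ?_).ge
    rw [hk] at this ⊢
    rw [h.cE]
    exact Nat.pow_le_pow_right (n := 7) (i := k) (j := 2) (by norm_num) (by_contra fun c =>
      h.not_dvd he h3.1 e1 ((pow_dvd_pow 7 (show 3 ≤ k by omega)).trans this)))

theorem he_x (he : CHe x) {e : G} (h1 : e ∈ S ⊓ 𝐂[z]) (c : IsConj x e) :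
    Nat.card ↥(𝐂[z] ⊓ 𝐂[e]) = 7 * 21504 ∧ X7 (𝐂[z] ⊓ 𝐂[e]) z := by
  obtain ⟨ψ, hs, hk⟩ := he.conj c
  have o := h.ord_of c
  have e1 : e ≠ 1 := fun c => by simp [c] at o
  have ce : Nat.card (zpowers e) = 7 := by rw [Nat.card_zpowers, o]
  obtain ⟨u, hu, un⟩ : ∃ u ∈ S ⊓ 𝐂[z], u ∉ zpowers e := by
    by_contra! e
    have := card_le_of_le (show S ⊓ 𝐂[z] ≤ _ from e)
    rw [h.cE, ce] at this
    omega
  have eE : zpowers e ⊔ zpowers u = S ⊓ 𝐂[z] := eq_of_lt_of_card fact7.out (left_lt_sup.2 fun c => un (c (mem_zpowers u)))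
    (sup_le (zpowers_le.2 h1) (zpowers_le.2 hu)) (by rw [h.cE, ce])
  have l := cent_le_cent1 h1
  have b := cen_bar hk o hs (w := ⟨z, mem_cent1_symm h1.2⟩) h.oz
  have := Finite.of_surjective ψ hs
  have k : 𝐂[ψ ⟨z, mem_cent1_symm h1.2⟩] ⊓ 𝐂[ψ ⟨u, l (h.comE hu)⟩] = bar ψ (𝐂[z] ⊓ 𝐂(S ⊓ 𝐂[z])) := by
    refine le_antisymm (fun a ha => ?_) (le_inf (b ▸ bar_mono inf_le_left) ?_)
    · obtain ⟨c, hc, rfl⟩ := b.le ha.1
      refine ⟨c, ⟨hc, ?_⟩, rfl⟩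
      have d : c * u * (c : G)⁻¹ * u⁻¹ ∈ zpowers e := (hk (c * ⟨u, l (h.comE hu)⟩ * c⁻¹ * ⟨u, l (h.comE hu)⟩⁻¹)).1 (by
        simp only [map_mul, map_inv, mem_cent1.1 ha.2]; group)
      have n : (c : G) ∈ 𝐍(S ⊓ 𝐂[z]) := Transfer.mem_normalizer_of_conj_le (by
        rw [← eE, Transfer.conj_sup, Transfer.conj_zpowers, Transfer.conj_zpowers, mem_cent1.1 c.2, mul_inv_cancel_right]
        exact sup_le le_sup_left (zpowers_le.2 (by simpa using mul_mem (mem_sup_left d) (mem_sup_right (mem_zpowers u)))))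
      have := (Nml.cent (inf_le_right : 𝐂[z] ⊓ 𝐂[e] ⊓ 𝐍(S ⊓ 𝐂[z]) ≤ _)).normal
      have p := (pow_index_mem (H := (𝐂[z] ⊓ 𝐂[e] ⊓ 𝐍(S ⊓ 𝐂[z]) ⊓ 𝐂(S ⊓ 𝐂[z])).subgroupOf (𝐂[z] ⊓ 𝐂[e] ⊓ 𝐍(S ⊓ 𝐂[z])))
        ⟨c, ⟨hc, c.2⟩, n⟩).2
      have r := Syl.not_dvd' ((h.sylE he).of_le (le_inf (le_inf inf_le_right (h.comE.trans l)) (le_norm _))
        (inf_le_left.trans inf_le_left))
      replace r := fun c => r (Dvd.dvd.trans c (relIndex_dvd_left (le_inf (le_inf (le_inf inf_le_right (h.comE.trans l))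
        (le_norm _)) h.comE) _))
      rw [relIndex] at r
      generalize ((𝐂[z] ⊓ 𝐂[e] ⊓ 𝐍(S ⊓ 𝐂[z]) ⊓ 𝐂(S ⊓ 𝐂[z])).subgroupOf (𝐂[z] ⊓ 𝐂[e] ⊓ 𝐍(S ⊓ 𝐂[z]))).index = r at p r
      have cd : (c : G) ∈ 𝐂(zpowers e) := by rw [cent_zpowers]; exact c.2
      have i : ∀ n : ℕ, (c : G) ^ n * u * ((c : G) ^ n)⁻¹ = (c * u * (c : G)⁻¹ * u⁻¹) ^ n * u := fun n => by
        induction n with
        | zero => simp
        | succ n ih =>
          calc _ = c * ((c : G) ^ n * u * ((c : G) ^ n)⁻¹) * (c : G)⁻¹ := by rw [pow_succ']; group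
            _ = _ := by rw [ih, ← mul_assoc, ← cd _ (pow_mem d n), pow_succ]; group
      have := eq_one_of_zpowers (o ▸ pow_orderOf_eq_one e) d r (by
        rw [← mul_left_inj u, ← i, ← show u * (c : G) ^ _ = (c : G) ^ _ * u from p u hu]; group)
      rw [← eE, cent_sup, cent_zpowers u]
      exact ⟨cd, mem_cent1.2 (mul_inv_eq_iff_eq_mul.1 (mul_inv_eq_one.1 this))⟩
    · rintro _ ⟨c, hc, rfl⟩
      rw [mem_cent1, ← map_mul, ← map_mul]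
      exact congrArg ψ (Subtype.ext (hc.2 u hu).symm)
  obtain ⟨k1, k2⟩ := he_inv (u := ψ ⟨u, l (h.comE hu)⟩) (ord_two hk o (w := ⟨z, mem_cent1_symm h1.2⟩) h.oz) (orderOf_eq_prime
    (by rw [← map_pow, ← map_one ψ]; exact congrArg ψ (Subtype.ext (h.expE u hu))) fun c => un ((hk _).1 c))
    (b.ge ⟨_, hu.2, rfl⟩) (by
      have := card_bar hk (B := 𝐂[z] ⊓ 𝐂(S ⊓ 𝐂[z])) ⟨h1.2, h.comE h1⟩
      rw [← k, o, inf_eq_left.2 (inf_le_right.trans l), h.cCE] at this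
      omega)
  refine ⟨by rw [← card_cen_bar hk o hs (w := ⟨z, mem_cent1_symm h1.2⟩) h.oz, k1, mul_comm], ?_⟩
  rw [b, bar, ← inf_subgroupOf_right] at k2
  exact (k2.pull hk o inf_le_right ⟨h1.2, self_mem_cent1 e⟩).of_cen ⟨self_mem_cent1 z, mem_cent1_symm h1.2⟩ inf_le_left h.oz

theorem conj_x (he : CHe x) {a e : G} (ha : a ∈ S ⊓ 𝐂[z]) (h1 : e ∈ S ⊓ 𝐂[z]) (ca : IsConj x a) (c : IsConj x e) :
    ∃ g ∈ 𝐂[z], g * a * g⁻¹ = e := by
  obtain ⟨ψ, hs, hk⟩ := he.conj c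
  have o := h.ord_of c
  obtain ⟨g, hg⟩ := isConj_iff.1 (ca.symm.trans c)
  have m : g * z * g⁻¹ ∈ 𝐂[e] := by rw [← hg, ← conj_cent1, Transfer.conj_mem_conj]; exact mem_cent1_symm ha.2
  have ow : orderOf (g * z * g⁻¹) = 2 := ((MulAut.conj g).orderOf_eq z).trans h.oz
  have c1 := card_cen_bar hk o hs (w := ⟨_, m⟩) ow
  have c2 := card_cen_bar hk o hs (w := ⟨z, mem_cent1_symm h1.2⟩) h.oz
  rw [(h.he_x he h1 c).1] at c2
  replace c1 := c1.trans (show Nat.card ↥(𝐂[g * z * g⁻¹] ⊓ 𝐂[e]) = _ by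
    rw [← hg, ← conj_cent1, ← conj_cent1, ← Transfer.conj_inf, Transfer.card_conj, (h.he_x he ha ca).1])
  obtain ⟨k, hk'⟩ := isConj_iff.1 (he_conj (ord_two hk o (w := ⟨_, m⟩) ow)
    (ord_two hk o (w := ⟨z, mem_cent1_symm h1.2⟩) h.oz) (by omega) (by omega))
  obtain ⟨k, rfl⟩ := hs k
  have d : k * (g * z * g⁻¹) * (k : G)⁻¹ * z⁻¹ ∈ zpowers e :=
    (hk (k * ⟨_, m⟩ * k⁻¹ * ⟨z, mem_cent1_symm h1.2⟩⁻¹)).1 (by simp only [map_mul, map_inv, hk', mul_inv_cancel])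
  have := eq_one_of_zpowers (o ▸ pow_orderOf_eq_one e) d (r := 2) (by norm_num) (by
    have := mem_cent1.1 (zpowers_le.2 h1.2 d)
    calc _ = (k * (g * z * g⁻¹) * (k : G)⁻¹) * (z⁻¹ * (k * (g * z * g⁻¹) * (k : G)⁻¹ * z⁻¹ * z)) * (z * z)⁻¹ * z := by
          rw [sq]; group
      _ = k * g * (z * z) * (k * g)⁻¹ * (z * z)⁻¹ := by rw [this]; group
      _ = 1 := by rw [h.zz]; group)
  refine ⟨k * g, mem_cent1.2 ?_, ?_⟩
  · nth_rw 2 [← mul_inv_eq_one.1 this]; group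
  · rw [show k * g * a * (k * g)⁻¹ = k * (g * a * g⁻¹) * (k : G)⁻¹ by group, hg, mem_cent1.1 k.2, mul_inv_cancel_right]

theorem cz (he : CHe x) : ∃ y x' : 𝐂[z],
    Cz (⟨z, mem_centralizer_singleton_iff.2 rfl⟩ : 𝐂[z]) ((S ⊓ 𝐂[z]).subgroupOf 𝐂[z]) y x' := by
  obtain ⟨y, hy, y1⟩ := h.exists_gen
  obtain ⟨c1, c2⟩ := h.clsE hy y1
  have nc : ∀ {a}, IsConj y a → ¬ IsConj x a := fun c d => h.nb x h.xA h.xZ y hy (d.trans c.symm)
  obtain ⟨a, ha, an⟩ := Set.exists_mem_notMem_of_ncard_lt_ncard (t := (S ⊓ 𝐂[z] : Subgroup G))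
    (s := insert 1 {e | e ∈ S ⊓ 𝐂[z] ∧ IsConj y e}) ((Set.ncard_insert_le _ _).trans_lt (by
      rw [c2, ← Nat.card_coe_set_eq]; exact lt_of_lt_of_eq (by norm_num) h.cE.symm))
  have a1 : a ≠ 1 := fun c => an (.inl c)
  have ca := (c1 a ha a1).resolve_left fun c => an (.inr ⟨ha, c⟩)
  have yE := h.Z1E hy
  have up : ∀ {a b : 𝐂[z]}, IsConj a b → IsConj (a : G) b := (𝐂[z]).subtype.map_isConj
  have dy : ∀ e : 𝐂[z], IsConj y (e : G) → IsConj ⟨y, yE.2⟩ e := fun e c =>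
    let ⟨g, hg, e⟩ := h.conj hy y1 e.2 c; isConj_iff.2 ⟨⟨g, hg⟩, Subtype.ext e⟩
  have dx : ∀ e : 𝐂[z], (e : G) ∈ S ⊓ 𝐂[z] → IsConj x (e : G) → IsConj ⟨a, ha.2⟩ e := fun e m c =>
    let ⟨g, hg, e⟩ := h.conj_x he ha m ca c; isConj_iff.2 ⟨⟨g, hg⟩, Subtype.ext e⟩
  obtain ⟨k1, k2⟩ := h.he_x he ha ca
  rw [inf_comm] at k1 k2
  refine ⟨⟨y, yE.2⟩, ⟨a, ha.2⟩, ⟨(Nat.card_congr (subgroupOfEquivOfLe inf_le_right).toEquiv).trans h.cE, (h.sylE he).not_dvd',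
    fun e m => Subtype.ext (h.expE e m), fun a m b n => Subtype.ext (h.comE m b n), yE, ha,
    fun c => y1 (congrArg Subtype.val c), fun c => a1 (congrArg Subtype.val c), fun c => nc (up c) ca,
    fun e m e1 => (c1 e m fun c => e1 (Subtype.ext c)).imp (dy e) (dx e m), ?_, dx _ (pow_mem ha 3) ?_⟩,
    mem_center_iff.2 fun g => Subtype.ext (mem_cent1.1 g.2), (orderOf_coe _).symm.trans h.oz, ?_, ?_, ?_, ?_⟩
  · rw [← c2, ← Set.ncard_image_of_injective _ Subtype.val_injective]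
    congr 1
    ext e
    exact ⟨by rintro ⟨e, m, rfl⟩; exact ⟨m.1, up m.2⟩, fun m => ⟨⟨e, m.1.2⟩, ⟨m.1, dy _ m.2⟩, rfl⟩⟩
  · have n : ∀ b : G, b ^ 7 = 1 → b = (b ^ 3) ^ 5 := fun b e => by
      rw [← pow_mul, show 3 * 5 = 7 * 2 + 1 from rfl, pow_succ, pow_mul, e]; simp
    exact (c1 _ (pow_mem ha 3) fun c => a1 (by rw [n a (h.expE a ha), c, one_pow])).resolve_left fun c =>
      h.nb _ (pow_mem h.xA 3) (fun m => h.xZ (n x (h.exp x h.xQ) ▸ pow_mem m 5)) y hy ((ca.pow 3).trans c.symm)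
  · obtain ⟨ψ, hs, hk⟩ := h.Cy hy y1
    let j := (MulEquiv.subgroupCongr (cent1_sub (⟨y, yE.2⟩ : 𝐂[z]))).trans (subgroupOfEquivOfLe inf_le_right)
    refine ⟨ψ.comp j.toMonoidHom, hs.comp j.surjective, fun c => (hk _).trans ?_⟩
    rw [← mem_map_iff_mem (subtype_injective _), Subgroup.map_sup, MonoidHom.map_zpowers, MonoidHom.map_zpowers]
    rfl
  · rw [cent1_sub, Nat.card_congr (subgroupOfEquivOfLe inf_le_right).toEquiv, k1]
  · rw [← h.cCE, ← Nat.card_congr (subgroupOfEquivOfLe (inf_le_left : 𝐂[z] ⊓ 𝐂(S ⊓ 𝐂[z]) ≤ _)).toEquiv]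
    congr 2
    ext c
    exact ⟨fun m => ⟨c.2, fun b n => congrArg Subtype.val (m ⟨b, n.2⟩ n)⟩, fun m b n => Subtype.ext (m.2 b n)⟩
  · have := (k2.top ⟨mem_cent1_symm ha.2, self_mem_cent1 z⟩).map (inclusion_injective inf_le_right)
    rwa [← MonoidHom.range_eq_map, inclusion_range, ← cent1_sub ⟨a, ha.2⟩] at this

end L2

end Cfsg.Lib.M7
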